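import Cfsg.Agent.Lib.Blocks.PRational.Local
import Cfsg.Agent.Lib.Char.PConjugate

/-!
# A block has at least `blockRank` characters fixed by a Galois automorphism fixing the `p'`-roots of unity

For an exponent `k` prime to `|G|` and congruent to `1` modulo the `p'`-part of `|G|`, the number of
`χ ∈ B` with `χ (g ^ k) = χ g` is at least `blockRank p B`.
-/

set_option autoImplicit false
set_option linter.style.haveILetI false
set_option linter.unusedSectionVars false

namespace Cfsg.Agent.Blocks.PRational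

open Cfsg Cfsg.Agent.Blocks
open scoped ComplexConjugate Classical

universe u

variable {G : Type u} [Group G] [Fintype G] {M : Ideal AlgInt} [M.IsMaximal] {p : ℕ}
  [hp : Fact p.Prime] (hpM : (p : AlgInt) ∈ M)

include hpM

/-- The second main theorem for a `p`-element whose centraliser is a given subgroup. -/
theorem kernel_section (H : Subgroup G) [Fintype H] {B : Set (IrrCharacter G)} (hB : IsPBlock M B)
    {x : G} (hx : ∃ j, orderOf x = p ^ j) (hH : Subgroup.centralizer ({x} : Set G) = H) (s t : H)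
    (hs : IsPRegular p s) (ht : IsPRegular p t) :
    ∑ χ ∈ Finset.univ.filter (· ∈ B), χ.1 (x * s) * conj (χ.1 (x * t)) =
      kern (inducingSet M H B) s t := by
  subst hH
  rw [second_main_orth hpM hx hB hs ht, kern]

/-- The contribution of one `p`-section. -/
theorem exists_nat_section {B : Set (IrrCharacter G)} (hB : IsPBlock M B) {k : ℕ}
    (hk : k.Coprime (Nat.card G)) (hk1 : k ≡ 1 [MOD Nat.card G / p ^ (Nat.card G).factorization p])
    {x : G} (hx : ∃ j, orderOf x = p ^ j) :
    ∃ N : ℕ, ∑ s ∈ (Finset.univ.filter fun s : Subgroup.centralizer ({x} : Set G) => IsPRegular p s),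
        ∑ χ ∈ Finset.univ.filter (· ∈ B), χ.1 ((x * s) ^ k) * conj (χ.1 (x * s)) = (N : ℂ) := by
  set H := Subgroup.centralizer ({x} : Set G) with hHdef
  have hsreg : ∀ s : H, IsPRegular p s → IsPRegular p (s : G) := fun s hs => by
    rwa [IsPRegular, Subgroup.orderOf_coe]
  have hpow : ∀ s : H, IsPRegular p s → (x * (s : G)) ^ k = x ^ k * s := by
    intro s hs
    have hc : Commute x (s : G) := (Subgroup.mem_centralizer_singleton_iff.1 s.2).symm
    rw [hc.mul_pow]
    congr 1
    refine (pow_eq_pow_iff_modEq.2 (hk1.of_dvd ?_)).trans (pow_one _)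
    refine Nat.Coprime.dvd_of_dvd_mul_left
      (Nat.Coprime.pow_right ((Nat.card G).factorization p) ((hp.out.coprime_iff_not_dvd).2 (hsreg s hs)).symm) ?_
    rw [Nat.mul_div_cancel' (Nat.ordProj_dvd _ _)]
    exact orderOf_dvd_natCard _
  have hxk : ∃ j, orderOf (x ^ k) = p ^ j := by
    obtain ⟨j, hj⟩ := hx
    refine ⟨j, ?_⟩
    rw [Nat.Coprime.orderOf_pow (Nat.Coprime.coprime_dvd_left (orderOf_dvd_natCard x) hk.symm), hj]
  have hCk : Subgroup.centralizer ({x ^ k} : Set G) = H := by
    ext g
    simp only [hHdef, Subgroup.mem_centralizer_singleton_iff]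
    refine ⟨fun h => ?_, fun h => ((show Commute g x from h).pow_right k).eq⟩
    obtain ⟨i, hi⟩ : x ∈ Subgroup.zpowers (x ^ k) := by
      have : Subgroup.zpowers (x ^ k) = Subgroup.zpowers x := Subgroup.eq_of_le_of_card_ge
        (Subgroup.zpowers_le.2 (pow_mem (Subgroup.mem_zpowers x) k)) (by
          rw [Nat.card_zpowers, Nat.card_zpowers,
            Nat.Coprime.orderOf_pow (Nat.Coprime.coprime_dvd_left (orderOf_dvd_natCard x) hk.symm)])
      rw [this]; exact Subgroup.mem_zpowers x
    have h2 := ((show Commute g (x ^ k) from h).zpow_right i).eq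
    rw [show (x ^ k) ^ i = x from hi] at h2
    exact h2
  by_cases hc : IsConj (x ^ k) x
  swap
  · refine ⟨0, ?_⟩
    rw [Nat.cast_zero]
    refine Finset.sum_eq_zero fun s hs => ?_
    have hs' := (Finset.mem_filter.1 hs).2
    have hcomm : Commute x (s : G) := (Subgroup.mem_centralizer_singleton_iff.1 s.2).symm
    have h1 := isPPart_mul (p := p) hcomm hx (hsreg s hs')
    have h2 : IsPPart p ((x * (s : G)) ^ k) (x ^ k) := by
      rw [hpow s hs']
      exact isPPart_mul (hcomm.pow_left k) hxk (hsreg s hs')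
    rw [← block_orthogonality hpM h2 h1 hc hB]
  obtain ⟨c, hcx⟩ := isConj_iff.1 hc
  have hmem : ∀ a : G, a ∈ H ↔ c * a * c⁻¹ ∈ H := by
    intro a
    conv_lhs => rw [← hCk]
    simp only [hHdef, Subgroup.mem_centralizer_singleton_iff]
    conv_rhs => rw [← hcx]
    constructor
    · intro h
      rw [show c * a * c⁻¹ * (c * x ^ k * c⁻¹) = c * (a * x ^ k) * c⁻¹ by group, h]
      group
    · intro h
      rw [show c * a * c⁻¹ * (c * x ^ k * c⁻¹) = c * (a * x ^ k) * c⁻¹ by group,
        show c * x ^ k * c⁻¹ * (c * a * c⁻¹) = c * (x ^ k * a) * c⁻¹ by group] at h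
      exact mul_left_cancel (mul_right_cancel h)
  let α : MulAut H :=
    { toFun := fun a => ⟨c * a * c⁻¹, (hmem a).1 a.2⟩
      invFun := fun a => ⟨c⁻¹ * a * c, (hmem _).2 (by
        rw [show c * (c⁻¹ * (a : G) * c) * c⁻¹ = a by group]; exact a.2)⟩
      left_inv := fun a => Subtype.ext (show c⁻¹ * (c * (a : G) * c⁻¹) * c = a by group)
      right_inv := fun a => Subtype.ext (show c * (c⁻¹ * (a : G) * c) * c⁻¹ = a by group)
      map_mul' := fun a b => Subtype.ext
        (show c * ((a : G) * b) * c⁻¹ = c * a * c⁻¹ * (c * b * c⁻¹) by group) }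
  have hαreg : ∀ a : H, IsPRegular p a → IsPRegular p (α a) := fun a ha => by
    rwa [IsPRegular, MulEquiv.orderOf_eq]
  have hval : ∀ (χ : IrrCharacter G) (a : H), χ.1 (x * (α a : G)) = χ.1 (x ^ k * a) := by
    intro χ a
    rw [← irr_classFun χ (x ^ k * a) c]
    refine congrArg χ.1 ?_
    show x * (c * a * c⁻¹) = _
    conv_lhs => rw [← hcx]
    group
  have hkern : ∀ a b : H, IsPRegular p a → IsPRegular p b →
      kern (inducingSet M H B) (α a) (α b) = kern (inducingSet M H B) a b := by
    intro a b ha hb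
    rw [← kernel_section hpM H hB hx rfl _ _ (hαreg a ha) (hαreg b hb),
      ← kernel_section hpM H hB hxk hCk _ _ ha hb]
    exact Finset.sum_congr rfl fun χ _ => by rw [hval, hval]
  obtain ⟨m, hm⟩ := exists_nat_sum_twist hpM (isBlockUnion_inducingSet H B) α hkern
  refine ⟨Nat.card H * m, ?_⟩
  rw [Nat.cast_mul, ← hm]
  refine Finset.sum_congr (by ext; simp) fun s hs => ?_
  have hs' := (Finset.mem_filter.1 hs).2
  rw [← kernel_section hpM H hB hx rfl _ _ (hαreg s hs') hs']
  exact Finset.sum_congr rfl fun χ _ => by rw [hval, hpow s hs']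

/-- At least `blockRank` members of the block are fixed by the twist by `k`. -/
theorem blockRank_le_card_fixed {B : Set (IrrCharacter G)} (hB : IsPBlock M B) {k : ℕ}
    (hk : k.Coprime (Nat.card G))
    (hk1 : k ≡ 1 [MOD Nat.card G / p ^ (Nat.card G).factorization p]) :
    blockRank p B ≤ Nat.card {χ : IrrCharacter G // χ ∈ B ∧ ∀ g, χ.1 (g ^ k) = χ.1 g} := by
  have hn : (Nat.card G : ℂ) ≠ 0 := Nat.cast_ne_zero.2 Nat.card_pos.ne'
  set W : G → ℂ := fun g => ∑ χ ∈ Finset.univ.filter (· ∈ B), χ.1 (g ^ k) * conj (χ.1 g) with hW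
  -- the count as an inner product
  have hcount : ∑ g : G, W g =
      (Nat.card G : ℂ) * Nat.card {χ : IrrCharacter G // χ ∈ B ∧ ∀ g, χ.1 (g ^ k) = χ.1 g} := by
    rw [hW]
    beta_reduce
    rw [Finset.sum_comm, Nat.card_eq_fintype_card (α := {χ : IrrCharacter G // _}), Fintype.card_subtype,
      ← Finset.filter_filter, Finset.card_filter, Nat.cast_sum, Finset.mul_sum]
    refine Finset.sum_congr (by ext; simp) fun χ _ => ?_
    have hir := CharInt.isIrrCharacter_pow χ.2 hk
    have hinner : ∑ g : G, χ.1 (g ^ k) * conj (χ.1 g) =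
        (Nat.card G : ℂ) * classInner (fun g => χ.1 (g ^ k)) χ.1 := by
      rw [classInner, ← mul_assoc, mul_inv_cancel₀ hn, one_mul]
    rw [hinner]
    congr 1
    split_ifs with h
    · rw [show (fun g => χ.1 (g ^ k)) = χ.1 from funext h, Char.classInner_irr_self χ.2, Nat.cast_one]
    · rw [Char.classInner_irr_of_ne hir χ.2 fun e => h (congrFun e), Nat.cast_zero]
  -- split according to the `p`-part
  choose pp hpp using fun g : G => exists_isPPart (p := p) g
  have hfiber : ∀ x : G, (∃ j, orderOf x = p ^ j) →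
      ∑ g ∈ Finset.univ.filter (fun g => pp g = x), W g =
        ∑ s ∈ (Finset.univ.filter fun s : Subgroup.centralizer ({x} : Set G) => IsPRegular p s),
          W (x * s) := by
    intro x hx
    symm
    refine Finset.sum_bij (fun s _ => x * (s : G)) (fun s hs => ?_) (fun s _ t _ h => ?_) (fun g hg => ?_)
      (fun _ _ => rfl)
    · refine Finset.mem_filter.2 ⟨Finset.mem_univ _, IsPPart.unique (hpp _) (isPPart_mul
        (Subgroup.mem_centralizer_singleton_iff.1 s.2).symm hx ?_)⟩
      have h2 := (Finset.mem_filter.1 hs).2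
      rwa [IsPRegular, ← Subgroup.orderOf_coe] at h2
    · exact Subtype.ext (mul_left_cancel h)
    · obtain ⟨s, hs, hs'⟩ := exists_regular_factor ((Finset.mem_filter.1 hg).2 ▸ hpp g)
      exact ⟨s, Finset.mem_filter.2 ⟨Finset.mem_univ _, hs'⟩, hs⟩
  have hrest : ∀ x : G, ∃ N : ℕ, ∑ g ∈ Finset.univ.filter (fun g => pp g = x), W g = (N : ℂ) := by
    intro x
    by_cases hx : ∃ j, orderOf x = p ^ j
    · obtain ⟨N, hN⟩ := exists_nat_section hpM hB hk hk1 hx
      exact ⟨N, by rw [hfiber x hx, ← hN]⟩
    · refine ⟨0, ?_⟩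
      rw [Nat.cast_zero]
      refine Finset.sum_eq_zero fun g hg => absurd ?_ hx
      exact (Finset.mem_filter.1 hg).2 ▸ IsPPart.isPElement (hpp g)
  choose N hN using hrest
  have hone : ∑ g ∈ Finset.univ.filter (fun g => pp g = 1), W g =
      (Nat.card G : ℂ) * blockRank p B := by
    have hset : ∀ g : G, pp g = 1 ↔ IsPRegular p g := by
      intro g
      constructor
      · intro h
        obtain ⟨y, hy, -, -, hy'⟩ := hpp g
        rw [h, one_mul] at hy
        exact hy ▸ hy'
      · intro h
        exact IsPPart.unique (hpp g) ⟨g, one_mul g, Commute.one_left g, ⟨0, by simp⟩, h⟩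
    rw [BrauerPairs.blockRank_eq_sum hpM hp.out hB, Finset.mul_sum,
      ← Finset.sum_subtype (Finset.univ.filter (· ∈ B)) (by simp)
        (fun χ : IrrCharacter G => (Nat.card G : ℂ) * classInner (Char.regFun p χ.1) χ.1)]
    rw [hW]
    beta_reduce
    rw [Finset.sum_comm]
    refine Finset.sum_congr rfl fun χ _ => ?_
    rw [classInner, ← mul_assoc, mul_inv_cancel₀ hn, one_mul, Finset.sum_filter]
    refine Finset.sum_congr rfl fun g _ => ?_
    by_cases hg : IsPRegular p g
    · rw [if_pos ((hset g).2 hg), Char.regFun, if_neg hg]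
      congr 2
      refine congrArg χ.1 ?_
      refine (pow_eq_pow_iff_modEq.2 (hk1.of_dvd ?_)).trans (pow_one _)
      refine Nat.Coprime.dvd_of_dvd_mul_left
        (Nat.Coprime.pow_right ((Nat.card G).factorization p) ((hp.out.coprime_iff_not_dvd).2 hg).symm) ?_
      rw [Nat.mul_div_cancel' (Nat.ordProj_dvd _ _)]
      exact orderOf_dvd_natCard _
    · rw [if_neg fun h => hg ((hset g).1 h), Char.regFun, if_pos (not_not.1 hg), zero_mul]
  rw [← Finset.sum_fiberwise Finset.univ pp W,
    ← Finset.add_sum_erase _ _ (Finset.mem_univ (1 : G)), hone,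
    Finset.sum_congr rfl fun x _ => hN x] at hcount
  have hnat : Nat.card G * blockRank p B + ∑ x ∈ Finset.univ.erase (1 : G), N x =
      Nat.card G * Nat.card {χ : IrrCharacter G // χ ∈ B ∧ ∀ g, χ.1 (g ^ k) = χ.1 g} := by
    exact_mod_cast hcount
  exact Nat.le_of_mul_le_mul_left ((Nat.le_add_right _ _).trans hnat.le) Nat.card_pos

end Cfsg.Agent.Blocks.PRational
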