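import Cfsg.Agent.Lib.Blocks.PRational.PermTrace
import Cfsg.Agent.Lib.Blocks.SecondMain
import Cfsg.Agent.Lib.BrauerPairs.Rank
import Cfsg.Agent.Lib.Modular.SimpleCount

/-!
# The twisted trace of the projection on a union of blocks

For a union `U` of blocks and an automorphism `α` leaving the kernel `K (y, y') = Σ_{η ∈ U} η y conj (η y')`
invariant, `|G|⁻¹ Σ_{y p-regular} K (α y, y)` is a natural number.
-/

set_option autoImplicit false
set_option linter.style.haveILetI false
set_option linter.unusedSectionVars false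

namespace Cfsg.Agent.Blocks.PRational

open Cfsg Cfsg.Agent.Blocks MonoidAlgebra
open Cfsg.Agent.Modular (RegClass regClassOf)
open scoped ComplexConjugate Classical

universe u

variable {G : Type u} [Group G] [Fintype G] {M : Ideal AlgInt} [M.IsMaximal] {p : ℕ}
  [hp : Fact p.Prime] (hpM : (p : AlgInt) ∈ M) {U : Set (IrrCharacter G)}

/-- The kernel of the projection on `U`. -/
noncomputable def kern (U : Set (IrrCharacter G)) (y z : G) : ℂ :=
  ∑ η ∈ Finset.univ.filter (· ∈ U), η.1 y * conj (η.1 z)

theorem kern_congr_left {y y' : G} (h : IsConj y y') (z : G) : kern U y z = kern U y' z := by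
  obtain ⟨a, rfl⟩ := isConj_iff.1 h
  exact Finset.sum_congr rfl fun η _ => by rw [irr_classFun η]

/-- A regular representative of a class of regular elements. -/
noncomputable def rep (c : RegClass p G) : G := c.2.choose

theorem isPRegular_rep (c : RegClass p G) : IsPRegular p (rep c) := c.2.choose_spec.2

theorem regClassOf_rep (c : RegClass p G) : regClassOf (rep c) = c :=
  Subtype.ext (by
    show ConjClasses.mk (Modular.regPart (rep c)) = c.1
    rw [Modular.regPart_of_regular (isPRegular_rep c)]
    exact c.2.choose_spec.1)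

theorem isConj_rep {g : G} (hg : IsPRegular p g) : IsConj g (rep (regClassOf (p := p) g)) := by
  refine ConjClasses.mk_eq_mk_iff_isConj.1 ?_
  show ConjClasses.mk g = ConjClasses.mk (rep (regClassOf (p := p) g))
  unfold rep
  rw [(regClassOf (p := p) g).2.choose_spec.1]
  show ConjClasses.mk g = ConjClasses.mk (Modular.regPart g)
  rw [Modular.regPart_of_regular hg]

include hpM

omit hp in
/-- A member of `U` is reproduced by the projection on `U`. -/
theorem sum_regDot_apply (hp : p.Prime) (hU : IsBlockUnion M U) {φ : IrrCharacter G} (hφ : φ ∈ U)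
    {y : G} (hy : IsPRegular p y) :
    ∑ η ∈ Finset.univ.filter (· ∈ U), BrauerPairs.regDot p φ.1 η.1 * η.1 y = φ.1 y := by
  have h := congrFun (Char.eq_sum_classInner_smul
    (Char.isClassFunction_regFun p (irr_classFun φ))) y
  rw [Finset.sum_apply] at h
  have hy' : Char.regFun p φ.1 y = φ.1 y := by
    rw [Char.regFun, if_neg]; exact hy
  rw [← hy', h]
  simp only [Pi.smul_apply, smul_eq_mul]
  refine Finset.sum_filter_of_ne fun η _ hne => ?_
  by_contra hη
  refine hne (mul_eq_zero_of_left ?_ _)
  exact BrauerPairs.regDot_eq_zero hpM hp (isPBlock_blockOf φ) (mem_blockOf_self φ)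
    (fun h' => hη (hU φ hφ h'))

theorem sum_kern_mul (hU : IsBlockUnion M U) {y : G} (hy : IsPRegular p y) (z : G) :
    ∑ h ∈ Finset.univ.filter (IsPRegular p), kern U y h * kern U h z =
      (Nat.card G : ℂ) * kern U y z := by
  have key : ∀ φ η : IrrCharacter G,
      ∑ h ∈ Finset.univ.filter (IsPRegular p), φ.1 h * conj (η.1 h) =
        (Nat.card G : ℂ) * BrauerPairs.regDot p φ.1 η.1 := fun φ η => by
    rw [BrauerPairs.regDot, classInner, ← mul_assoc,
      mul_inv_cancel₀ (Nat.cast_ne_zero.2 Nat.card_pos.ne'), one_mul, Finset.sum_filter]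
    refine Finset.sum_congr rfl fun h _ => ?_
    by_cases hh : p ∣ orderOf h <;> simp [Char.regFun, IsPRegular, hh]
  calc ∑ h ∈ Finset.univ.filter (IsPRegular p), kern U y h * kern U h z
      = ∑ φ ∈ Finset.univ.filter (· ∈ U), ∑ η ∈ Finset.univ.filter (· ∈ U),
          η.1 y * conj (φ.1 z) *
            ∑ h ∈ Finset.univ.filter (IsPRegular p), φ.1 h * conj (η.1 h) := by
        calc ∑ h ∈ Finset.univ.filter (IsPRegular p), kern U y h * kern U h z
            = ∑ h ∈ Finset.univ.filter (IsPRegular p), ∑ φ ∈ Finset.univ.filter (· ∈ U),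
                ∑ η ∈ Finset.univ.filter (· ∈ U),
                  η.1 y * conj (φ.1 z) * (φ.1 h * conj (η.1 h)) := by
              refine Finset.sum_congr rfl fun h _ => ?_
              rw [kern, kern, Finset.sum_mul_sum, Finset.sum_comm]
              exact Finset.sum_congr rfl fun φ _ => Finset.sum_congr rfl fun η _ => by ring
          _ = _ := by
              rw [Finset.sum_comm]
              refine Finset.sum_congr rfl fun φ _ => ?_
              rw [Finset.sum_comm]
              exact Finset.sum_congr rfl fun η _ => (Finset.mul_sum _ _ _).symm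
    _ = ∑ φ ∈ Finset.univ.filter (· ∈ U), (Nat.card G : ℂ) * conj (φ.1 z) *
          ∑ η ∈ Finset.univ.filter (· ∈ U), BrauerPairs.regDot p φ.1 η.1 * η.1 y := by
        refine Finset.sum_congr rfl fun φ _ => ?_
        rw [Finset.mul_sum]
        exact Finset.sum_congr rfl fun η _ => by rw [key]; ring
    _ = _ := by
        rw [kern, Finset.mul_sum]
        refine Finset.sum_congr rfl fun φ hφ => ?_
        rw [sum_regDot_apply hpM hp.out hU (Finset.mem_filter.1 hφ).2 hy]
        ring

/-- The entries of the projection, as sums of coefficients of the block idempotent. -/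
theorem entry_eq (hU : IsBlockUnion M U) (c c' : RegClass p G) :
    (∑ g : G, if regClassOf (p := p) (g * rep c) = c' then blockCoeff U g else 0) =
      (Nat.card G : ℂ)⁻¹ * ∑ h ∈ Finset.univ.filter (fun h => IsPRegular p h ∧ regClassOf h = c'),
        kern U (rep c) h := by
  let θ : G → ℂ := fun x => if regClassOf (p := p) x = c' then 1 else 0
  have hθ : IsClassFunction G θ := fun g a => by simp only [θ, Modular.regClassOf_conj]
  have h1 : (∑ g : G, if regClassOf (p := p) (g * rep c) = c' then blockCoeff U g else 0) =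
      ∑ x : G, θ x * blockCoeff U (x * (rep c)⁻¹) := by
    refine Fintype.sum_equiv (Equiv.mulRight (rep c)) _ _ fun g => ?_
    simp [θ]
  rw [h1, sum_mul_blockCoeff hθ, blockPart, finsum_mem_eq_sum_of_inter_support_eq _
      (t := Finset.univ.filter (· ∈ U)) (by ext; simp), Finset.mul_sum,
    Finset.sum_filter (p := fun h => IsPRegular p h ∧ regClassOf h = c')]
  simp only [classInner, Finset.mul_sum, Finset.sum_mul]
  rw [Finset.sum_comm]
  refine Finset.sum_congr (by ext; simp) fun x _ => ?_
  rw [show (∑ η ∈ Finset.univ.filter (· ∈ U),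
      (Nat.card G : ℂ)⁻¹ * (θ x * conj (η.1 x)) * η.1 (rep c)) =
      (Nat.card G : ℂ)⁻¹ * θ x * kern U (rep c) x by
    rw [kern, Finset.mul_sum]
    exact Finset.sum_congr rfl fun η _ => by ring]
  by_cases hx : IsPRegular p x
  · simp [θ, hx]
  · rw [show kern U (rep c) x = 0 from hU.weak_orth hpM (isPRegular_rep c) hx]
    simp [hx]

theorem exists_nat_sum_twist (hU : IsBlockUnion M U) (α : MulAut G)
    (hα : ∀ y z, IsPRegular p y → IsPRegular p z → kern U (α y) (α z) = kern U y z) :
    ∃ m : ℕ, ∑ y ∈ Finset.univ.filter (IsPRegular p), kern U (α y) y = (Nat.card G : ℂ) * m := by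
  haveI := charP_residue (M := M) hpM
  haveI := isAlgClosed_residue (M := M)

  letI := Fintype.ofFinite (RegClass p G)
  have hS : SCoeff M (blockIdem U) := by
    rw [hU.blockIdem_eq]
    exact SCoeff.sum _ fun b hb => by
      obtain ⟨ψ, -, rfl⟩ := Finset.mem_image.1 hb
      exact scoeff_blockIdem (isPBlock_blockOf ψ)
  have hα' : ∀ y, IsPRegular p y ↔ IsPRegular p (α y) := fun y => by
    simp only [IsPRegular, MulEquiv.orderOf_eq]
  -- the permutation of the classes
  let σ0 : RegClass p G → RegClass p G := fun c => regClassOf (α (rep c))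
  have hσ0 : ∀ y, IsPRegular p y → σ0 (regClassOf y) = regClassOf (α y) := by
    intro y hy
    obtain ⟨a, ha⟩ := isConj_iff.1 (isConj_rep hy)
    show regClassOf (α (rep (regClassOf (p := p) y))) = _
    rw [← ha, map_mul, map_mul, map_inv, Modular.regClassOf_conj]
  have hσinj : Function.Injective σ0 := by
    intro c d h
    have hc := isConj_rep ((hα' _).1 (isPRegular_rep c))
    have hd := isConj_rep ((hα' _).1 (isPRegular_rep d))
    have h' : regClassOf (p := p) (α (rep c)) = regClassOf (α (rep d)) := h
    rw [h'] at hc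
    obtain ⟨a, ha⟩ := isConj_iff.1 (hc.trans hd.symm)
    rw [← regClassOf_rep c, ← regClassOf_rep d,
      ← α.injective (show α (α.symm a * rep c * (α.symm a)⁻¹) = α (rep d) by simpa using ha),
      Modular.regClassOf_conj]
  let σ : Equiv.Perm (RegClass p G) := Equiv.ofBijective σ0 (Finite.injective_iff_bijective.1 hσinj)
  have hσconj : ∀ c, IsConj (α (rep c)) (rep (σ c)) := fun c =>
    isConj_rep ((hα' _).1 (isPRegular_rep c))
  -- the projection
  let P : Matrix (RegClass p G) (RegClass p G) (localInt M) := Matrix.of fun c c' =>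
    ⟨∑ g : G, if regClassOf (p := p) (g * rep c) = c' then blockCoeff U g else 0,
      MemLocalRing.sum _ fun g _ => by
        split_ifs
        · exact coeff_blockIdem (A := U) g ▸ hS g
        · exact memLocalRing_zero⟩
  have hPC : ∀ c c', ((P c c' : localInt M) : ℂ) = (Nat.card G : ℂ)⁻¹ *
      ∑ h ∈ Finset.univ.filter (fun h => IsPRegular p h ∧ regClassOf h = c'), kern U (rep c) h :=
    fun c c' => entry_eq hpM hU c c'
  have hfib : ∀ f : G → ℂ, ∑ c : RegClass p G,
      ∑ h ∈ Finset.univ.filter (fun h => IsPRegular p h ∧ regClassOf h = c), f h =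
        ∑ h ∈ Finset.univ.filter (IsPRegular p), f h := fun f => by
    rw [← Finset.sum_fiberwise (Finset.univ.filter (IsPRegular p)) (regClassOf (p := p)) f]
    exact Finset.sum_congr rfl fun c _ => by rw [Finset.filter_filter]
  have hn : (Nat.card G : ℂ) ≠ 0 := Nat.cast_ne_zero.2 Nat.card_pos.ne'
  have hPP : P * P = P := by
    ext c c''
    rw [Matrix.mul_apply, AddSubmonoidClass.coe_finsetSum]
    simp only [MulMemClass.coe_mul, hPC]
    calc ∑ c', (Nat.card G : ℂ)⁻¹ * (∑ h ∈ Finset.univ.filter
            (fun h => IsPRegular p h ∧ regClassOf h = c'), kern U (rep c) h) *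
          ((Nat.card G : ℂ)⁻¹ * ∑ z ∈ Finset.univ.filter
            (fun z => IsPRegular p z ∧ regClassOf z = c''), kern U (rep c') z)
        = ∑ c', ∑ h ∈ Finset.univ.filter (fun h => IsPRegular p h ∧ regClassOf h = c'),
            (Nat.card G : ℂ)⁻¹ * (Nat.card G : ℂ)⁻¹ * ∑ z ∈ Finset.univ.filter
              (fun z => IsPRegular p z ∧ regClassOf z = c''), kern U (rep c) h * kern U h z := by
          refine Finset.sum_congr rfl fun c' _ => ?_
          rw [Finset.mul_sum, Finset.sum_mul]
          refine Finset.sum_congr rfl fun h hh => ?_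
          obtain ⟨-, hh1, rfl⟩ := Finset.mem_filter.1 hh
          simp only [Finset.mul_sum]
          exact Finset.sum_congr rfl fun z _ => by
            rw [← kern_congr_left (isConj_rep hh1) z]; ring
      _ = _ := by
          rw [hfib, ← Finset.mul_sum, Finset.sum_comm]
          simp only [Finset.mul_sum]
          refine Finset.sum_congr rfl fun z _ => ?_
          rw [← Finset.mul_sum, sum_kern_mul hpM hU (isPRegular_rep c) z]
          field_simp
  have hPσ : ∀ c c', P (σ c) (σ c') = P c c' := by
    intro c c'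
    apply Subtype.ext
    rw [hPC, hPC]
    congr 1
    symm
    refine Finset.sum_equiv α.toEquiv (fun h => ?_) (fun h hh => ?_)
    · simp only [Finset.mem_filter, Finset.mem_univ, true_and, MulEquiv.toEquiv_eq_coe,
        MulEquiv.coe_toEquiv, ← hα']
      refine and_congr_right fun hr => ?_
      show _ ↔ regClassOf (α h) = σ0 c'
      rw [← hσ0 h hr]
      exact hσinj.eq_iff.symm
    · simp only [MulEquiv.toEquiv_eq_coe, MulEquiv.coe_toEquiv]
      rw [← kern_congr_left (hσconj c), hα _ _ (isPRegular_rep c) (Finset.mem_filter.1 hh).2.1]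
  -- the irreducible representations
  obtain ⟨n, d, τ, hn1, hirr, hne⟩ :=
    Modular.exists_irr_family (p := p) (AlgInt ⧸ M) (G := G)
  have hcard : n = Fintype.card (RegClass p G) := by
    refine le_antisymm ?_ (Nat.card_eq_fintype_card (α := RegClass p G) ▸ hn1)
    have := Modular.card_le_regClass (p := p) (AlgInt ⧸ M) τ hirr hne
    rwa [Fintype.card_fin, Nat.card_eq_fintype_card] at this
  obtain ⟨e⟩ : Nonempty (RegClass p G ≃ Fin n) :=
    ⟨Fintype.equivOfCardEq (by rw [Fintype.card_fin, hcard])⟩
  let Tb : Matrix (RegClass p G) (RegClass p G) (AlgInt ⧸ M) :=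
    Matrix.of fun c i => LinearMap.trace (AlgInt ⧸ M) _ (τ (e i) (rep c))
  have htrace : ∀ (i : Fin n) (g : G), LinearMap.trace (AlgInt ⧸ M) _ (τ i g) =
      LinearMap.trace (AlgInt ⧸ M) _ (τ i (rep (regClassOf (p := p) g))) := fun i g =>
    Modular.trace_eq_of_regClassOf (p := p) (AlgInt ⧸ M) (τ i) (regClassOf_rep _).symm
  have hcols : ∀ f : RegClass p G → AlgInt ⧸ M,
      (∀ c, ∑ i, f i * Tb c i = 0) → ∀ i, f i = 0 := by
    intro f hf i
    have h := Fintype.linearIndependent_iff.1 (Blocks.CyclicDefect.linearIndependent_trace hirr hne)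
      (fun j => f (e.symm j)) ?_ (e i)
    · simpa using h
    · funext g
      simp only [Finset.sum_apply, Pi.smul_apply, smul_eq_mul, Pi.zero_apply]
      rw [← hf (regClassOf (p := p) g)]
      exact (Fintype.sum_equiv e _ _ fun j => by
        simp only [Tb, Matrix.of_apply, Equiv.symm_apply_apply]; rw [← htrace (e j) g]).symm
  have hdet : Tb.det ≠ 0 := by
    intro h0
    obtain ⟨v, hv, hv0⟩ := Matrix.exists_mulVec_eq_zero_iff.2 h0
    refine hv (funext (hcols v fun c => ?_))
    rw [← show (Tb.mulVec v) c = 0 from congrFun hv0 c]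
    exact Finset.sum_congr rfl fun i _ => mul_comm _ _
  -- the permutation of the representations
  have hperm : ∀ i : Fin n, ∃ j : Fin n, ∀ g, LinearMap.trace (AlgInt ⧸ M) _ (τ j g) =
      LinearMap.trace (AlgInt ⧸ M) _ (τ i (α g)) := by
    intro i
    let ρ : Representation (AlgInt ⧸ M) G (Fin (d i) → AlgInt ⧸ M) :=
      (τ i).comp α.toMonoidHom
    have hρ : Blocks.CyclicDefect.Irr ρ := by
      refine ⟨(hirr i).1, fun W hW => (hirr i).2 W fun g x hx => ?_⟩
      have := hW (α.symm g) x hx
      simpa [ρ] using this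
    have heq : ∀ (j : Fin n) (f : (Fin (d j) → AlgInt ⧸ M) →ₗ[AlgInt ⧸ M] (Fin (d i) → AlgInt ⧸ M)),
        Blocks.CyclicDefect.Intw (τ j) ρ f → f ≠ 0 → ∀ g,
          LinearMap.trace (AlgInt ⧸ M) _ (τ j g) = LinearMap.trace (AlgInt ⧸ M) _ (ρ g) := by
      intro j f hf hf0 g
      let ee := LinearEquiv.ofBijective f ⟨Blocks.CyclicDefect.injective_of_intw (hirr j) hf hf0,
        Blocks.CyclicDefect.surjective_of_intw hρ hf hf0⟩
      rw [← LinearMap.trace_conj' (τ j g) ee]
      congr 1
      refine LinearMap.ext fun x => ?_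
      obtain ⟨y, rfl⟩ := ee.surjective x
      rw [LinearEquiv.conj_apply_apply, ee.symm_apply_apply]
      exact hf g y
    have heq' : ∀ (j : Fin n) (f : (Fin (d i) → AlgInt ⧸ M) →ₗ[AlgInt ⧸ M] (Fin (d j) → AlgInt ⧸ M)),
        Blocks.CyclicDefect.Intw ρ (τ j) f → f ≠ 0 → ∀ g,
          LinearMap.trace (AlgInt ⧸ M) _ (τ j g) = LinearMap.trace (AlgInt ⧸ M) _ (ρ g) := by
      intro j f hf hf0 g
      let ee := LinearEquiv.ofBijective f ⟨Blocks.CyclicDefect.injective_of_intw hρ hf hf0,
        Blocks.CyclicDefect.surjective_of_intw (hirr j) hf hf0⟩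
      rw [← LinearMap.trace_conj' (ρ g) ee]
      congr 1
      refine LinearMap.ext fun x => ?_
      obtain ⟨y, rfl⟩ := ee.surjective x
      rw [LinearEquiv.conj_apply_apply, ee.symm_apply_apply]
      exact (hf g y).symm
    by_contra hcon
    push_neg at hcon
    let X : Option (Fin n) → Type := fun o => Fin (o.elim (d i) d) → AlgInt ⧸ M
    let τ' : ∀ o, Representation (AlgInt ⧸ M) G (X o) := fun o =>
      match o with
      | none => ρ
      | some j => τ j
    have hbad := Modular.card_le_regClass (p := p) (AlgInt ⧸ M) (X := X) τ' ?_ ?_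
    · rw [Fintype.card_option, Fintype.card_fin, Nat.card_eq_fintype_card, ← hcard] at hbad
      omega
    · rintro (_ | j)
      · exact hρ
      · exact hirr j
    · rintro (_ | j) (_ | j') f hf hjj
      · exact absurd rfl hjj
      · by_contra hf0
        obtain ⟨g, hg⟩ := hcon j'
        exact hg (heq' j' f hf hf0 g)
      · by_contra hf0
        obtain ⟨g, hg⟩ := hcon j
        exact hg (heq j f hf hf0 g)
      · exact hne j j' f hf fun h => hjj (by rw [h])
  choose π0 hπ0 using hperm
  let π1 : RegClass p G → RegClass p G := fun i => e.symm (π0 (e i))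
  have hπ1 : ∀ c i, Tb (σ c) i = Tb c (π1 i) := by
    intro c i
    have hcast : ∀ (j j' : Fin n) (g : G), j = j' →
        LinearMap.trace (AlgInt ⧸ M) _ (τ j g) = LinearMap.trace (AlgInt ⧸ M) _ (τ j' g) := by
      rintro j _ g rfl; rfl
    simp only [Tb, Matrix.of_apply, π1]
    rw [hcast _ _ _ (e.apply_symm_apply (π0 (e i))), hπ0]
    exact (htrace (e i) (α (rep c))).symm
  have hπinj : Function.Injective π1 := by
    intro i j hij
    by_contra hne'
    have h := hcols (Pi.single i 1 - Pi.single j 1) (fun c => ?_) i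
    · simp [hne'] at h
    · obtain ⟨c0, rfl⟩ := σ.surjective c
      simp only [Pi.sub_apply, sub_mul, Finset.sum_sub_distrib]
      rw [Finset.sum_eq_single i, Finset.sum_eq_single j]
      · simp [hπ1, hij]
      all_goals simp +contextual
  let π : Equiv.Perm (RegClass p G) := Equiv.ofBijective π1 (Finite.injective_iff_bijective.1 hπinj)
  -- the idempotent on the representations
  set ē := redA M (blockIdem U) with hē
  have hscal : ∀ i : Fin n, ∃ c : AlgInt ⧸ M, (c = 0 ∨ c = 1) ∧
      (τ i).asAlgebraHom ē = c • LinearMap.id := by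
    intro i
    obtain ⟨c, hc⟩ := Blocks.CyclicDefect.schur_scalar (hirr i) (T := (τ i).asAlgebraHom ē) (fun g x => by
      have h := (IsCentralElt.commute (isCentralElt_redA (M := M) (isCentralElt_blockIdem U))
        (MonoidAlgebra.single g (1 : AlgInt ⧸ M))).map (τ i).asAlgebraHom
      have h2 := LinearMap.congr_fun h.eq x
      simpa [hē] using h2)
    refine ⟨c, ?_, hc⟩
    have hee : ē * ē = ē := by rw [hē, ← redA_mul hS hS, blockIdem_mul_self]
    have h2 := congrArg (τ i).asAlgebraHom hee
    rw [map_mul, hc] at h2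
    haveI := (hirr i).1
    obtain ⟨v, hv⟩ := exists_ne (0 : Fin (d i) → AlgInt ⧸ M)
    have h3 : (c * c) • v = c • v := by simpa [mul_smul] using LinearMap.congr_fun h2 v
    exact (IsIdempotentElem.iff_eq_zero_or_one (p := c)).1 (smul_left_injective _ hv h3)
  choose dd hdd hdd' using hscal
  have hD : P.map (redHom M) * Tb = Tb * Matrix.diagonal (fun i => dd (e i)) := by
    ext c i
    rw [Matrix.mul_diagonal, Matrix.mul_apply]
    simp only [Matrix.map_apply, P, Matrix.of_apply, redHom_apply, Tb]
    have hmem : ∀ c' : RegClass p G, ∀ g ∈ (Finset.univ : Finset G),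
        MemLocalRing M (if regClassOf (p := p) (g * rep c) = c' then blockCoeff U g else 0) :=
      fun c' g _ => by
        split_ifs
        · exact coeff_blockIdem (A := U) g ▸ hS g
        · exact memLocalRing_zero
    calc ∑ c', red M (∑ g : G, if regClassOf (p := p) (g * rep c) = c' then blockCoeff U g else 0) *
          LinearMap.trace (AlgInt ⧸ M) _ (τ (e i) (rep c'))
        = ∑ g : G, ē.coeff g * LinearMap.trace (AlgInt ⧸ M) _ (τ (e i) (g * rep c)) := by
          simp only [red_sum _ (hmem _), Finset.sum_mul]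
          rw [Finset.sum_comm]
          refine Finset.sum_congr rfl fun g _ => ?_
          rw [Finset.sum_eq_single (regClassOf (p := p) (g * rep c))]
          · rw [if_pos rfl, hē, coeff_redA, coeff_blockIdem, ← htrace]
          · intro c' _ hc'
            rw [if_neg (Ne.symm hc'), red_zero, zero_mul]
          · simp
      _ = LinearMap.trace (AlgInt ⧸ M) _ ((τ (e i)).asAlgebraHom ē * τ (e i) (rep c)) := by
          conv_rhs => rw [eq_sum_single ē, map_sum, Finset.sum_mul, map_sum]
          exact Finset.sum_congr rfl fun g _ => by simp [map_mul]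
      _ = LinearMap.trace (AlgInt ⧸ M) _ (τ (e i) (rep c)) * dd (e i) := by
          rw [hdd', ← Module.End.one_eq_id, smul_mul_assoc, one_mul, map_smul, smul_eq_mul, mul_comm]
  obtain ⟨m, hm⟩ := exists_nat_trace_perm P σ π hPP hPσ Tb hdet hπ1 _ (fun i => hdd (e i)) hD
  refine ⟨m, ?_⟩
  rw [← hm]
  simp only [hPC]
  rw [← Finset.mul_sum, ← mul_assoc, mul_inv_cancel₀ hn, one_mul, ← hfib]
  refine Finset.sum_congr rfl fun c _ => Finset.sum_congr rfl fun h hh => kern_congr_left ?_ h
  obtain ⟨-, hh1, rfl⟩ := Finset.mem_filter.1 hh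
  exact ((α.toMonoidHom.map_isConj (isConj_rep hh1)).trans (hσconj _))

end Cfsg.Agent.Blocks.PRational
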