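import Cfsg.Agent.Lib.Blocks.ModReduction
import Mathlib.LinearAlgebra.Matrix.NonsingularInverse

/-!
# The trace of a permutation times an idempotent congruent to a diagonal one

An idempotent matrix `P` over the local ring of `M`, commuting with a permutation `σ` and reducing,
in a basis permuted by `σ`, to a diagonal matrix, has `trace (σ P)` a natural number.
-/

set_option autoImplicit false
set_option linter.style.haveILetI false
set_option linter.unusedSectionVars false

namespace Cfsg.Agent.Blocks.PRational

open Cfsg Cfsg.Agent.Blocks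

variable {M : Ideal AlgInt} [M.IsMaximal] {R : Type*} [Fintype R] [DecidableEq R]

/-- A matrix over the local ring with invertible reduction is invertible. -/
theorem exists_inverse (T : Matrix R R (localInt M)) (h : (T.map (redHom M)).det ≠ 0) :
    ∃ T' : Matrix R R (localInt M), T' * T = 1 ∧ T * T' = 1 := by
  have hd : red M ((T.det : localInt M) : ℂ) ≠ 0 := by
    rw [← redHom_apply, RingHom.map_det, RingHom.mapMatrix_apply]
    exact h
  have hnot : ¬ MemLocalIdeal M ((T.det : localInt M) : ℂ) := fun hm => hd (red_eq_zero_of_mem hm)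
  have hmul : T * ((⟨((T.det : localInt M) : ℂ)⁻¹, memLocalRing_inv T.det.2 hnot⟩ : localInt M) •
      T.adjugate) = 1 := by
    rw [Matrix.mul_smul, Matrix.mul_adjugate, smul_smul]
    conv_rhs => rw [← one_smul (localInt M) (1 : Matrix R R (localInt M))]
    congr 1
    exact Subtype.ext (inv_mul_cancel₀ (ne_zero_of_not_memLocalIdeal hnot))
  exact ⟨_, mul_eq_one_comm.1 hmul, hmul⟩

/-- The matrix of a permutation. -/
def permMat {S : Type*} [CommRing S] (π : Equiv.Perm R) : Matrix R R S :=
  Matrix.of fun j i => if j = π i then 1 else 0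

theorem mul_permMat {S : Type*} [CommRing S] (π : Equiv.Perm R) (A : Matrix R R S) (c i : R) :
    ((A * (permMat π : Matrix R R S)) : Matrix R R S) c i = A c (π i) := by
  simp [Matrix.mul_apply, permMat]

theorem transpose_permMat_mul {S : Type*} [CommRing S] (π : Equiv.Perm R) (A : Matrix R R S)
    (c i : R) : (((permMat π : Matrix R R S).transpose * A) : Matrix R R S) c i = A (π c) i := by
  simp [Matrix.mul_apply, permMat]

theorem exists_nat_trace_perm (P : Matrix R R (localInt M)) (σ π : Equiv.Perm R) (hP : P * P = P)
    (hσ : ∀ c c', P (σ c) (σ c') = P c c') (Tb : Matrix R R (AlgInt ⧸ M)) (hT : Tb.det ≠ 0)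
    (hπ : ∀ c i, Tb (σ c) i = Tb c (π i)) (d : R → AlgInt ⧸ M) (hd : ∀ i, d i = 0 ∨ d i = 1)
    (hD : P.map (redHom M) * Tb = Tb * Matrix.diagonal d) :
    ∃ m : ℕ, ∑ c, ((P (σ c) c : localInt M) : ℂ) = m := by
  classical

  choose sec hsec using redHom_surjective (M := M)
  set r := redHom M
  set T : Matrix R R (localInt M) := Tb.map sec with hTdef
  have hTr : T.map r = Tb := by ext i j; exact hsec _
  obtain ⟨T', hT'T, hTT'⟩ := exists_inverse T (by rw [show T.map (redHom M) = Tb from hTr]; exact hT)
  set S : Matrix R R (localInt M) := (permMat σ).transpose with hS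
  set Qm : Matrix R R (localInt M) := permMat π with hQ
  have hST : S * T = T * Qm := by
    ext c i
    rw [hS, transpose_permMat_mul, hQ, mul_permMat]
    show ((sec (Tb (σ c) i) : localInt M) : ℂ) = _
    rw [hπ]
    rfl
  have hSP : S * P = P * S := by
    ext c j
    rw [hS, transpose_permMat_mul]
    have : ((P * (permMat σ : Matrix R R (localInt M)).transpose) : Matrix R R (localInt M)) c j = P c (σ.symm j) := by
      rw [Matrix.mul_apply, Finset.sum_eq_single (σ.symm j)]
      · simp [permMat]
      · intro i _ hi
        rw [Matrix.transpose_apply, permMat, Matrix.of_apply, if_neg, mul_zero]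
        exact fun h => hi (by rw [h, σ.symm_apply_apply])
      · exact fun h => absurd (Finset.mem_univ _) h
    rw [this, ← hσ c (σ.symm j), σ.apply_symm_apply]
  set P' := T' * P * T with hP'
  have hP'P' : P' * P' = P' := by
    calc P' * P' = T' * P * (T * T') * P * T := by simp only [hP', mul_assoc]
      _ = T' * (P * P) * T := by rw [hTT', mul_one]; simp only [mul_assoc]
      _ = P' := by rw [hP]
  have hPeq : P = T * P' * T' := by
    calc P = (T * T') * P * (T * T') := by rw [hTT', one_mul, mul_one]
      _ = T * P' * T' := by simp only [hP', mul_assoc]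
  have hQeq : Qm = T' * S * T := by rw [mul_assoc, hST, ← mul_assoc, hT'T, one_mul]
  have hcomm : Commute Qm P' := by
    show Qm * P' = P' * Qm
    calc Qm * P' = T' * S * (T * T') * P * T := by simp only [hQeq, hP', mul_assoc]
      _ = T' * (S * P) * T := by rw [hTT', mul_one]; simp only [mul_assoc]
      _ = T' * (P * S) * T := by rw [hSP]
      _ = T' * P * (T * T') * S * T := by rw [hTT', mul_one]; simp only [mul_assoc]
      _ = P' * Qm := by simp only [hQeq, hP', mul_assoc]
  set D : Matrix R R (localInt M) := Matrix.diagonal fun i => if d i = 1 then 1 else 0 with hDdef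
  have hDD : D * D = D := by
    rw [hDdef, Matrix.diagonal_mul_diagonal]
    congr 1
    funext i
    split_ifs <;> simp
  have hDr : D.map r = Matrix.diagonal d := by
    rw [hDdef, Matrix.diagonal_map (map_zero r)]
    congr 1
    funext i
    rcases hd i with h | h <;> simp [h]
  have hP'r : P'.map r = Matrix.diagonal d := by
    rw [hP', mul_assoc, Matrix.map_mul, Matrix.map_mul, hTr, hD, ← mul_assoc, ← hTr, ← Matrix.map_mul,
      hT'T, Matrix.map_one r (map_zero r) (map_one r), one_mul]
  have hdπ : ∀ i, d (π i) = d i := by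
    intro i
    have h := congrFun (congrFun (congrArg (fun A : Matrix R R (localInt M) => A.map r) hcomm.eq) (π i)) i
    simp only [Matrix.map_mul, hP'r] at h
    rw [Matrix.mul_diagonal, Matrix.diagonal_mul] at h
    simp [hQ, permMat] at h
    exact h.symm
  have hQD : Commute Qm D := by
    show Qm * D = D * Qm
    ext j i
    rw [hDdef, Matrix.mul_diagonal, Matrix.diagonal_mul]
    simp only [hQ, permMat, Matrix.of_apply]
    rcases eq_or_ne j (π i) with h | h
    · subst h; rw [hdπ]; simp
    · simp [h]
  have hQdiag : ∀ i, Qm i i * D i i = if π i = i ∧ d i = 1 then 1 else 0 := fun i => by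
    rw [hDdef, Matrix.diagonal_apply_eq]
    simp only [hQ, permMat, Matrix.of_apply]
    by_cases h1 : π i = i
    · simp [h1]
    · simp [h1, Ne.symm h1]
  have hDne : ∀ j i, j ≠ i → D j i = 0 := fun j i h => by rw [hDdef, Matrix.diagonal_apply_ne _ h]
  clear_value P' D Qm
  set U := P' * D + (1 - P') * (1 - D) with hU
  have h1 : P' * (1 - P') = 0 := by rw [mul_sub, mul_one, hP'P', sub_self]
  have h2 : (1 - D) * D = 0 := by rw [sub_mul, one_mul, hDD, sub_self]
  have hP'U : P' * U = P' * D := by
    rw [hU, mul_add, ← mul_assoc, hP'P', ← mul_assoc, h1, zero_mul, add_zero]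
  have hUD : U * D = P' * D := by
    rw [hU, add_mul, mul_assoc, hDD, mul_assoc, h2, mul_zero, add_zero]
  have hUr : U.map r = 1 := by
    have hi : Matrix.diagonal d * Matrix.diagonal d = Matrix.diagonal d := by
      rw [Matrix.diagonal_mul_diagonal]
      congr 1
      funext i
      rcases hd i with h | h <;> simp [h]
    rw [hU, ← RingHom.mapMatrix_apply, map_add, map_mul, map_mul, map_sub, map_sub, map_one]
    simp only [RingHom.mapMatrix_apply, hP'r, hDr]
    rw [hi, mul_sub, mul_one, sub_mul, one_mul, hi, sub_self, sub_zero, add_sub_cancel]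
  obtain ⟨U', hU'U, hUU'⟩ := exists_inverse U (by
    rw [show U.map (redHom M) = 1 from hUr, Matrix.det_one]; exact one_ne_zero)
  have hP'U' : P' = U * D * U' := by
    rw [hUD, ← hP'U, mul_assoc, hUU', mul_one]
  have hQU : Commute Qm U :=
    (hcomm.mul_right hQD).add_right (((Commute.one_right _).sub_right hcomm).mul_right
      ((Commute.one_right _).sub_right hQD))
  refine ⟨(Finset.univ.filter fun i => π i = i ∧ d i = 1).card, ?_⟩
  have htr : ∑ c, P (σ c) c = Matrix.trace (Qm * D) := by
    calc ∑ c, P (σ c) c = Matrix.trace (S * P) := by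
          refine Finset.sum_congr rfl fun c _ => ?_
          rw [Matrix.diag_apply, hS, transpose_permMat_mul]
      _ = Matrix.trace (T * (Qm * P') * T') := by
          conv_lhs => rw [hPeq]
          simp only [← mul_assoc, hST]
      _ = Matrix.trace (Qm * U * D * U') := by
          rw [Matrix.trace_mul_comm, ← mul_assoc, hT'T, one_mul, hP'U']
          simp only [mul_assoc]
      _ = Matrix.trace (Qm * D) := by
          rw [hQU.eq, Matrix.trace_mul_comm, ← mul_assoc, ← mul_assoc, hU'U, one_mul]
  have h2 := congrArg (fun z : localInt M => (z : ℂ)) htr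
  simp only [AddSubmonoidClass.coe_finsetSum] at h2
  rw [h2, Matrix.trace, AddSubmonoidClass.coe_finsetSum, Finset.card_filter, Nat.cast_sum]
  refine Finset.sum_congr rfl fun i _ => ?_
  rw [Matrix.diag_apply, Matrix.mul_apply, Finset.sum_eq_single i
    (fun j _ hj => by rw [hDne j i hj, mul_zero]) (by simp), hQdiag]
  split_ifs <;> simp

end Cfsg.Agent.Blocks.PRational
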